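import Groth.Agent.CDivLib.Basic
import Groth.Prelude.Def_Pi1
import Mathlib

/-!
# Divisors on normal schemes: orders at points of codimension one
-/

set_option autoImplicit false
set_option linter.style.haveILetI false

universe u

noncomputable section

open CategoryTheory AlgebraicGeometry TopologicalSpace Opposite Order

namespace Groth.Agent.CDivLib

variable {X : Scheme.{u}} [IsIntegral X] [IsLocallyNoetherian X]

theorem coheight_fromSpec {U : X.Opens} (hU : IsAffineOpen U) (q : PrimeSpectrum Γ(X, U)) :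
    coheight (hU.fromSpec q) = q.asIdeal.height := by
  rw [coheight_eq_of_isOpenImmersion, idealHeight_eq_coheight]

theorem coheight_eq_one_iff {x : X} : coheight x = 1 ↔ ringKrullDim (X.presheaf.stalk x) = 1 := by
  rw [ringKrullDim_stalk_eq_coheight]
  norm_cast

theorem isDVR_stalk (hX : Pi1.IsNormalScheme X) {x : X} (hx : coheight x = 1) :
    IsDiscreteValuationRing (X.presheaf.stalk x) := by
  haveI := (hX x).2
  haveI : Ring.KrullDimLE 1 (X.presheaf.stalk x) := krullDimLE_of_coheight_le hx.le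
  have hnf : ¬ IsField (X.presheaf.stalk x) := fun hF => by
    letI := hF.toField
    exact one_ne_zero ((coheight_eq_one_iff.1 hx).symm.trans (ringKrullDim_eq_zero_of_field _))
  obtain ⟨b, hb, hb0⟩ := (Submodule.ne_bot_iff _).1 (IsLocalRing.isField_iff_maximalIdeal_eq.not.1 hnf)
  refine isDVR_of_depth_one (depth_eq_one (K := X.functionField)
    (algebraMap (X.presheaf.stalk x) X.functionField b)⁻¹ (fun a ha => hb ?_) fun q hq hle => ?_)
  · refine IsUnit.of_mul_eq_one a (IsFractionRing.injective _ X.functionField ?_)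
    rw [map_mul, ha, map_one, mul_inv_cancel₀ ((map_ne_zero_iff _ (IsFractionRing.injective _ _)).2 hb0)]
  · have hq0 : q ≠ ⊥ := fun h => cond_ne_bot _ (le_bot_iff.1 (h ▸ hle))
    exact (IsLocalRing.eq_maximalIdeal ((Ring.krullDimLE_one_iff_of_noZeroDivisors.1 inferInstance) q hq0 hq)).ge

theorem coheight_eq_one_of_depth_one (hX : Pi1.IsNormalScheme X) {x : X}
    (hx : LocCoh.depth (X.presheaf.stalk x) (X.presheaf.stalk x) = 1) : coheight x = 1 := by
  haveI := (hX x).2
  haveI := isDVR_of_depth_one hx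
  exact coheight_eq_one_iff.2 (IsDiscreteValuationRing.ringKrullDim_eq_one _)

theorem ord_one (x : X) : Scheme.ord (1 : X.functionField) x = 0 := by
  have := Scheme.ord_mul (X := X) (x := x) (one_ne_zero (α := X.functionField)) one_ne_zero
  rw [mul_one] at this
  omega

theorem ord_inv {f : X.functionField} (hf : f ≠ 0) (x : X) : Scheme.ord f⁻¹ x = - Scheme.ord f x := by
  have := Scheme.ord_mul (X := X) (x := x) hf (inv_ne_zero hf)
  rw [mul_inv_cancel₀ hf, ord_one] at this
  omega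

theorem ord_nonneg_of_reg {f : X.functionField} {x : X} (h : Reg f x) : 0 ≤ Scheme.ord f x := by
  by_cases hf : f = 0
  · simp [hf]
  by_cases hx : coheight x = 1
  · haveI : Ring.KrullDimLE 1 (X.presheaf.stalk x) := krullDimLE_of_coheight_le hx.le
    obtain ⟨a, rfl⟩ := h
    rw [Scheme.le_ord_iff hx hf]
    exact Ring.ordFrac_ge_one_of_ne_zero (fun ha => hf (by rw [ha, map_zero]))
  · simp [hx]

theorem ord_pos_of_nonunit (hX : Pi1.IsNormalScheme X) {x : X} (hx : coheight x = 1)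
    {a : X.presheaf.stalk x} (ha0 : a ≠ 0) (ha : ¬ IsUnit a) :
    0 < Scheme.ord (algebraMap (X.presheaf.stalk x) X.functionField a) x := by
  haveI := isDVR_stalk hX hx
  haveI : Ring.KrullDimLE 1 (X.presheaf.stalk x) := krullDimLE_of_coheight_le hx.le
  have hK := (map_ne_zero_iff (algebraMap (X.presheaf.stalk x) X.functionField) (IsFractionRing.injective _ _)).2 ha0
  refine lt_of_le_of_ne (ord_nonneg_of_reg ⟨a, rfl⟩) fun h => ha ?_
  rw [Ring.isUnit_iff_ordFrac_one_of_isDiscreteValuationRing (K := X.functionField)]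
  exact (Scheme.ord_eq_iff hx hK).1 h.symm

theorem reg_of_ord_nonneg_stalk (hX : Pi1.IsNormalScheme X) {f : X.functionField} {x : X}
    (hx : coheight x = 1) (h : 0 ≤ Scheme.ord f x) : Reg f x := by
  haveI := isDVR_stalk hX hx
  by_cases hf : f = 0
  · exact ⟨0, by rw [map_zero, hf]⟩
  rcases ValuationRing.isInteger_or_isInteger (X.presheaf.stalk x) f with ⟨a, ha⟩ | ⟨c, hc⟩
  · exact ⟨a, ha⟩
  · by_cases hu : IsUnit c
    · exact ⟨↑hu.unit⁻¹, by rw [map_units_inv, hu.unit_spec, hc, inv_inv]⟩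
    · have := ord_pos_of_nonunit hX hx (fun h0 => inv_ne_zero hf (by rw [← hc, h0, map_zero])) hu
      rw [hc, ord_inv hf] at this
      omega

/-- On a normal scheme regularity is detected at the generizations of codimension one. -/
theorem reg_of_ord_nonneg (hX : Pi1.IsNormalScheme X) {f : X.functionField} {z : X}
    (h : ∀ w, coheight w = 1 → w ⤳ z → 0 ≤ Scheme.ord f w) : Reg f z := by
  by_contra hz
  obtain ⟨x, hxf, hxz, hmax⟩ := exists_maximal_generization (fun w => ¬ Reg f w) hz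
  have hx := coheight_eq_one_of_depth_one hX
    (depth_eq_one_of_not_reg hxf fun w hw hne => not_not.1 (hmax w hw hne))
  exact hxf (reg_of_ord_nonneg_stalk hX hx (h x hx hxz))

theorem stalkUnits_of_ord_eq_zero (hX : Pi1.IsNormalScheme X) {f : CDiv.KUnits X} {z : X}
    (h : ∀ w, coheight w = 1 → w ⤳ z → Scheme.ord (f : X.functionField) w = 0) :
    f ∈ CDiv.stalkUnits X z :=
  mem_stalkUnits_iff.2 ⟨reg_of_ord_nonneg hX fun w h1 h2 => (h w h1 h2).ge,
    reg_of_ord_nonneg hX fun w h1 h2 => by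
      rw [Units.val_inv_eq_inv_val, ord_inv f.ne_zero, h w h1 h2, neg_zero]⟩

theorem ord_eq_zero_of_mem_stalkUnits {f : CDiv.KUnits X} {x : X} (h : f ∈ CDiv.stalkUnits X x) :
    Scheme.ord (f : X.functionField) x = 0 := by
  obtain ⟨h1, h2⟩ := mem_stalkUnits_iff.1 h
  have := ord_nonneg_of_reg h2
  rw [Units.val_inv_eq_inv_val, ord_inv f.ne_zero] at this
  have := ord_nonneg_of_reg h1
  omega

theorem ord_eq_of_germOf_eq {f g : CDiv.KUnits X} {x : X} (h : CDiv.germOf X x f = CDiv.germOf X x g) :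
    Scheme.ord (f : X.functionField) x = Scheme.ord (g : X.functionField) x := by
  have h1 := ord_eq_zero_of_mem_stalkUnits (germOf_eq_iff.1 h)
  rw [Units.val_mul, Units.val_inv_eq_inv_val, Scheme.ord_mul (inv_ne_zero f.ne_zero) g.ne_zero,
    ord_inv f.ne_zero] at h1
  omega

theorem isEffective_iff_ord_nonneg (hX : Pi1.IsNormalScheme X) (D : CDiv.Divisor X) :
    CDiv.IsEffective D ↔ ∀ x : X, coheight x = 1 → ∀ f : CDiv.KUnits X, D.1 x = CDiv.germOf X x f →
      0 ≤ Scheme.ord (f : X.functionField) x := by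
  refine ⟨fun h x _ f hf => ord_nonneg_of_reg ((isEffectiveAt_iff D hf).1 (h x)), fun h =>
    isEffective_of_depth_one D fun x hx => ?_⟩
  obtain ⟨f, hf⟩ := exists_germOf D x
  have hc := coheight_eq_one_of_depth_one hX hx
  exact (isEffectiveAt_iff D hf).2 (reg_of_ord_nonneg_stalk hX hc (h x hc f hf))

theorem eq_one_of_ord_eq_zero (hX : Pi1.IsNormalScheme X) (D : CDiv.Divisor X)
    (h : ∀ x : X, coheight x = 1 → ∀ f : CDiv.KUnits X, D.1 x = CDiv.germOf X x f →
      Scheme.ord (f : X.functionField) x = 0) : D = 1 := by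
  refine divisor_ext fun z => ?_
  obtain ⟨f, hf⟩ := exists_germOf D z
  rw [hf]
  exact germOf_eq_one_iff.2 (stalkUnits_of_ord_eq_zero hX fun w hw hwz => h w hw f (rep_of_specializes D hwz hf))

open scoped Classical in
/-- `f` is a local equation at `z` of the prime cycle at `x₀`. -/
def IsEqn (x₀ z : X) (f : CDiv.KUnits X) : Prop :=
  ∀ w, coheight w = 1 → w ⤳ z → Scheme.ord (f : X.functionField) w = if w = x₀ then 1 else 0

theorem germOf_eq_of_isEqn (hX : Pi1.IsNormalScheme X) {x₀ z : X} {f g : CDiv.KUnits X}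
    (hf : IsEqn x₀ z f) (hg : IsEqn x₀ z g) : CDiv.germOf X z f = CDiv.germOf X z g := by
  refine germOf_eq_iff.2 (stalkUnits_of_ord_eq_zero hX fun w hw hwz => ?_)
  rw [Units.val_mul, Units.val_inv_eq_inv_val, Scheme.ord_mul (inv_ne_zero f.ne_zero) g.ne_zero,
    ord_inv f.ne_zero, hf w hw hwz, hg w hw hwz, neg_add_cancel]

theorem eq_of_height_one {A : Type u} [CommRing A] [IsDomain A] [IsNoetherianRing A] {q p : Ideal A}
    [q.IsPrime] [p.IsPrime] (h : q ≤ p) (hq : q ≠ ⊥) (hp : p.height = 1) : q = p := by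
  by_contra hne
  have h1 := Ideal.height_strict_mono_of_isPrime (I := q) (lt_of_le_of_ne h hne)
  haveI : (⊥ : Ideal A).IsPrime := Ideal.isPrime_bot
  have h2 := Ideal.height_strict_mono_of_isPrime (I := (⊥ : Ideal A)) (bot_lt_iff_ne_bot.2 hq)
  rw [hp, Order.lt_one_iff] at h1
  rw [h1] at h2
  exact not_lt_bot h2

theorem stalkUnits_germ_iff {U : X.Opens} (hU : IsAffineOpen U) [Nonempty U] {a : Γ(X, U)}
    (ha : X.germToFunctionField U a ≠ 0) (w : U) :
    Units.mk0 _ ha ∈ CDiv.stalkUnits X (w : X) ↔ a ∉ (hU.primeIdealOf w).asIdeal := by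
  haveI := hU.isLocalization_stalk w
  letI := TopCat.Presheaf.algebra_section_stalk X.presheaf w
  haveI := functionField_isScalarTower X U w
  have he : algebraMap (X.presheaf.stalk (w : X)) X.functionField (algebraMap Γ(X, U) _ a) =
      X.germToFunctionField U a := (IsScalarTower.algebraMap_apply Γ(X, U) _ X.functionField a).symm
  constructor
  · rintro ⟨v, hv⟩ hmem
    have : (v : X.presheaf.stalk (w : X)) = algebraMap Γ(X, U) _ a :=
      IsFractionRing.injective _ X.functionField ((congrArg Units.val hv).trans he.symm)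
    exact (IsLocalization.AtPrime.isUnit_to_map_iff (X.presheaf.stalk (w : X)) (hU.primeIdealOf w).asIdeal a).1
      (this ▸ v.isUnit) hmem
  · intro hn
    exact ⟨(IsLocalization.map_units (X.presheaf.stalk (w : X)) (⟨a, hn⟩ : (hU.primeIdealOf w).asIdeal.primeCompl)).unit,
      Units.ext (he)⟩

theorem exists_isEqn (hX : Pi1.IsNormalScheme X) {x₀ : X} (hx₀ : coheight x₀ = 1) (z : X)
    [UniqueFactorizationMonoid (X.presheaf.stalk z)] : ∃ f : CDiv.KUnits X, IsEqn x₀ z f := by
  classical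
  by_cases hsp : x₀ ⤳ z
  swap
  · exact ⟨1, fun w hw hwz => by rw [Units.val_one, ord_one, if_neg fun (h : w = x₀) => hsp (h ▸ hwz)]⟩
  obtain ⟨_, ⟨U, hU, rfl⟩, hzU, -⟩ := X.isBasis_affineOpens.exists_subset_of_mem_open (Set.mem_univ z) isOpen_univ
  haveI : Nonempty U := ⟨⟨z, hzU⟩⟩
  haveI : IsNoetherianRing Γ(X, U) := IsLocallyNoetherian.component_noetherian ⟨U, hU⟩
  have hx₀U : x₀ ∈ U := hsp.mem_open U.2 hzU
  have hht : ∀ w : U, coheight (w : X) = (hU.primeIdealOf w).asIdeal.height := fun w => by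
    rw [← coheight_fromSpec hU, hU.fromSpec_primeIdealOf]
  have hle : ∀ w : U, (w : X) ⤳ z → (hU.primeIdealOf w).asIdeal ≤ (hU.primeIdealOf ⟨z, hzU⟩).asIdeal :=
    fun w hw => (PrimeSpectrum.le_iff_specializes _ _).2 (hU.fromSpec.isOpenEmbedding.isInducing.specializes_iff.1
      (by rwa [hU.fromSpec_primeIdealOf, hU.fromSpec_primeIdealOf]))
  set p := (hU.primeIdealOf ⟨z, hzU⟩).asIdeal with hpdef
  set q₀ := (hU.primeIdealOf ⟨x₀, hx₀U⟩).asIdeal with hq₀def
  have hq₀p : q₀ ≤ p := hle ⟨x₀, hx₀U⟩ hsp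
  have hq₀ : q₀.height = 1 := (hht ⟨x₀, hx₀U⟩).symm.trans hx₀
  haveI := hU.isLocalization_stalk ⟨z, hzU⟩
  letI : Algebra Γ(X, U) (X.presheaf.stalk z) := TopCat.Presheaf.algebra_section_stalk X.presheaf (⟨z, hzU⟩ : U)
  haveI : IsLocalization.AtPrime (X.presheaf.stalk z) p := hU.isLocalization_stalk ⟨z, hzU⟩
  have hdisj : Disjoint (p.primeCompl : Set Γ(X, U)) q₀ :=
    Set.disjoint_left.2 fun a ha hq => ha (hq₀p hq)
  have hq0ne : q₀ ≠ ⊥ := q₀.ne_bot_of_height_eq_one hq₀
  haveI hmp : (q₀.map (algebraMap Γ(X, U) (X.presheaf.stalk z))).IsPrime :=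
    IsLocalization.isPrime_of_isPrime_disjoint p.primeCompl _ q₀ inferInstance hdisj
  have hinj : Function.Injective (algebraMap Γ(X, U) (X.presheaf.stalk z)) :=
    germ_injective_of_isIntegral X z hzU
  obtain ⟨π, hπq, hπ⟩ := hmp.exists_mem_prime_of_ne_bot
    fun h => hq0ne ((Ideal.map_eq_bot_iff_of_injective hinj).1 h)
  obtain ⟨g, ⟨s, hs⟩, hgs⟩ := IsLocalization.exists_mk'_eq p.primeCompl π
  have hπg : Associated (algebraMap Γ(X, U) _ g) π := by
    have := associated_mul_unit_left π _ (IsLocalization.map_units (X.presheaf.stalk z) (⟨s, hs⟩ : p.primeCompl))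
    rwa [show π * algebraMap Γ(X, U) _ s = algebraMap Γ(X, U) _ g by
      rw [← hgs]; exact IsLocalization.mk'_spec _ _ _] at this
  have hgp := hπg.symm.prime hπ
  have hgq : g ∈ q₀ := by
    rw [← IsLocalization.under_map_of_isPrime_disjoint p.primeCompl (X.presheaf.stalk z) (I := q₀) inferInstance hdisj]
    refine Ideal.mem_comap.2 ?_
    exact (Ideal.span_singleton_le_iff_mem _).1
      ((Ideal.span_singleton_eq_span_singleton.2 hπg).le.trans ((Ideal.span_singleton_le_iff_mem _).2 hπq))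
  haveI hP : (Ideal.span {algebraMap Γ(X, U) (X.presheaf.stalk z) g}).IsPrime :=
    (Ideal.span_singleton_prime hgp.ne_zero).2 hgp
  have hspan : Ideal.span {algebraMap Γ(X, U) (X.presheaf.stalk z) g} = q₀.map (algebraMap Γ(X, U) _) := by
    rw [← IsLocalization.map_under p.primeCompl (X.presheaf.stalk z) (Ideal.span {algebraMap Γ(X, U) _ g})]
    congr 1
    refine eq_of_height_one ?_ ?_ hq₀
    · rw [← IsLocalization.under_map_of_isPrime_disjoint p.primeCompl (X.presheaf.stalk z) (I := q₀) inferInstance hdisj]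
      exact Ideal.comap_mono ((Ideal.span_singleton_le_iff_mem _).2 (Ideal.mem_map_of_mem _ hgq))
    · exact (Submodule.ne_bot_iff _).2 ⟨g, Ideal.mem_span_singleton_self _, fun h => hgp.ne_zero (by rw [h, map_zero])⟩
  have hgK : X.germToFunctionField U g ≠ 0 :=
    (map_ne_zero_iff _ (X.germToFunctionField_injective U)).2 fun h => hgp.ne_zero (by rw [h, map_zero])
  refine ⟨Units.mk0 _ hgK, fun w hw hwz => ?_⟩
  have hwU : w ∈ U := hwz.mem_open U.2 hzU
  have hq1 : (hU.primeIdealOf ⟨w, hwU⟩).asIdeal.height = 1 := (hht ⟨w, hwU⟩).symm.trans hw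
  by_cases hwx : w = x₀
  · subst hwx
    rw [if_pos rfl]
    haveI := isDVR_stalk hX hw
    haveI : Ring.KrullDimLE 1 (X.presheaf.stalk w) := krullDimLE_of_coheight_le hw.le
    letI : Algebra Γ(X, U) (X.presheaf.stalk w) := TopCat.Presheaf.algebra_section_stalk X.presheaf (⟨w, hwU⟩ : U)
    haveI : IsLocalization.AtPrime (X.presheaf.stalk w) q₀ := hU.isLocalization_stalk ⟨w, hwU⟩
    have hmax : IsLocalRing.maximalIdeal (X.presheaf.stalk w) = Ideal.span {algebraMap Γ(X, U) _ g} := by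
      refine le_antisymm ?_ ((Ideal.span_singleton_le_iff_mem _).2 ?_)
      · rw [← IsLocalization.AtPrime.map_eq_maximalIdeal q₀ (X.presheaf.stalk w), Ideal.map_le_iff_le_comap]
        intro c hc
        have hc' : algebraMap Γ(X, U) (X.presheaf.stalk z) c ∈ Ideal.span {algebraMap Γ(X, U) _ g} :=
          hspan ▸ Ideal.mem_map_of_mem _ hc
        obtain ⟨d, hd⟩ := Ideal.mem_span_singleton.1 hc'
        obtain ⟨d', ⟨t, ht⟩, rfl⟩ := IsLocalization.exists_mk'_eq p.primeCompl d
        have hA : t * c = g * d' := hinj (by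
          rw [map_mul, map_mul, hd, mul_left_comm, IsLocalization.mk'_spec'_mk])
        rw [Ideal.mem_comap, Ideal.mem_span_singleton]
        have hu := IsLocalization.map_units (X.presheaf.stalk w) (⟨t, fun h => ht (hq₀p h)⟩ : q₀.primeCompl)
        rw [← hu.dvd_mul_left, ← map_mul, hA, map_mul]
        exact dvd_mul_right _ _
      · exact (IsLocalization.AtPrime.to_map_mem_maximal_iff (X.presheaf.stalk w) q₀ g).2 hgq
    have hirr := (IsDiscreteValuationRing.irreducible_iff_uniformizer _).2 hmax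
    rw [Scheme.ord_eq_iff hw (Units.ne_zero _), Units.val_mk0,
      ← Scheme.algebraMap_germ_eq_germToFunctionField X hwU]
    exact Ring.ordFrac_irreducible hirr
  · rw [if_neg hwx]
    refine ord_eq_zero_of_mem_stalkUnits ((stalkUnits_germ_iff hU hgK ⟨w, hwU⟩).2 fun hmem => hwx ?_)
    have hqp := hle ⟨w, hwU⟩ hwz
    have hd : Disjoint (p.primeCompl : Set Γ(X, U)) (hU.primeIdealOf ⟨w, hwU⟩).asIdeal :=
      Set.disjoint_left.2 fun a ha hq => ha (hqp hq)
    have h1 : q₀ ≤ (hU.primeIdealOf ⟨w, hwU⟩).asIdeal := by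
      rw [← IsLocalization.under_map_of_isPrime_disjoint p.primeCompl (X.presheaf.stalk z) (I := q₀) inferInstance hdisj,
        ← IsLocalization.under_map_of_isPrime_disjoint p.primeCompl (X.presheaf.stalk z)
          (I := (hU.primeIdealOf ⟨w, hwU⟩).asIdeal) inferInstance hd, ← hspan]
      exact Ideal.comap_mono ((Ideal.span_singleton_le_iff_mem _).2 (Ideal.mem_map_of_mem _ hmem))
    have h2 := PrimeSpectrum.ext (x := hU.primeIdealOf ⟨x₀, hx₀U⟩) (y := hU.primeIdealOf ⟨w, hwU⟩)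
      (eq_of_height_one h1 hq0ne hq1)
    exact (hU.fromSpec_primeIdealOf ⟨w, hwU⟩).symm.trans ((congrArg hU.fromSpec h2.symm).trans (hU.fromSpec_primeIdealOf ⟨x₀, hx₀U⟩))

theorem finite_height_one {A : Type u} [CommRing A] [IsDomain A] [IsNoetherianRing A] {I : Ideal A}
    (hI : I ≠ ⊥) : {q : Ideal A | q.IsPrime ∧ q.height = 1 ∧ I ≤ q}.Finite := by
  refine (Ideal.finite_minimalPrimes_of_isNoetherianRing A I).subset fun q ⟨hq, h1, hIq⟩ => ⟨⟨hq, hIq⟩, ?_⟩
  rintro q' ⟨hq', hIq'⟩ hle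
  haveI := hq; haveI := hq'
  exact (eq_of_height_one hle (fun h => hI (le_bot_iff.1 (h ▸ hIq'))) h1).ge

theorem exists_open_isEqn {x₀ y : X} {f : CDiv.KUnits X} (hf : IsEqn x₀ y f) :
    ∃ W : X.Opens, y ∈ W ∧ ∀ z ∈ W, IsEqn x₀ z f := by
  classical
  obtain ⟨_, ⟨U, hU, rfl⟩, hyU, -⟩ := X.isBasis_affineOpens.exists_subset_of_mem_open (Set.mem_univ y) isOpen_univ
  haveI : Nonempty U := ⟨⟨y, hyU⟩⟩
  haveI : IsNoetherianRing Γ(X, U) := IsLocallyNoetherian.component_noetherian ⟨U, hU⟩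
  haveI := functionField_isFractionRing_of_isAffineOpen X U hU
  haveI : IsDomain Γ(X, U) := inferInstance
  let B : Set X := {w | w ∈ U ∧ coheight w = 1 ∧ Scheme.ord (f : X.functionField) w ≠ if w = x₀ then 1 else 0}
  let S : Set X := {x₀} ∪ hU.fromSpec '' (PrimeSpectrum.asIdeal ⁻¹'
    ({q | q.IsPrime ∧ q.height = 1 ∧ cond Γ(X, U) (f : X.functionField) ≤ q} ∪
      {q | q.IsPrime ∧ q.height = 1 ∧ cond Γ(X, U) ((f⁻¹ : CDiv.KUnits X) : X.functionField) ≤ q}))
  have hBfin : B.Finite := by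
    have hS : S.Finite := (Set.finite_singleton _).union ((((finite_height_one (cond_ne_bot _)).union
      (finite_height_one (cond_ne_bot _))).preimage fun a _ b _ => PrimeSpectrum.ext).image _)
    refine hS.subset fun w ⟨hwU, hw1, hne⟩ => ?_
    by_cases hwx : w = x₀
    · exact Or.inl hwx
    rw [if_neg hwx] at hne
    right
    have hq1 : (hU.primeIdealOf ⟨w, hwU⟩).asIdeal.height = 1 := by
      rw [← coheight_fromSpec hU, hU.fromSpec_primeIdealOf]; exact hw1
    refine ⟨hU.primeIdealOf ⟨w, hwU⟩, ?_, hU.fromSpec_primeIdealOf ⟨w, hwU⟩⟩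
    by_contra h
    simp only [Set.mem_preimage, Set.mem_union, Set.mem_ofPred_eq, not_or, not_and] at h
    exact hne (ord_eq_zero_of_mem_stalkUnits (mem_stalkUnits_iff.2
      ⟨(reg_iff_not_cond_le hU _ ⟨w, hwU⟩).2 (h.1 inferInstance hq1),
        (reg_iff_not_cond_le hU _ ⟨w, hwU⟩).2 (h.2 inferInstance hq1)⟩))
  have hC : IsClosed (⋃ w ∈ B, closure ({w} : Set X)) := hBfin.isClosed_biUnion fun _ _ => isClosed_closure
  refine ⟨U ⊓ ⟨_, hC.isOpen_compl⟩, ⟨hyU, fun h => ?_⟩, fun z hz w hw hwz => ?_⟩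
  · simp only [Set.mem_iUnion] at h
    obtain ⟨w, ⟨-, hw, hne⟩, hwy⟩ := h
    exact hne (hf w hw (specializes_iff_mem_closure.2 hwy))
  · by_contra hne
    exact hz.2 (Set.mem_biUnion (show w ∈ B from ⟨hwz.mem_open U.2 hz.1, hw, hne⟩)
      (specializes_iff_mem_closure.1 hwz))

theorem exists_prime_cycle_divisor (hX : Pi1.IsNormalScheme X)
    (hU : ∀ x : X, UniqueFactorizationMonoid (X.presheaf.stalk x)) {x₀ : X} (hx₀ : coheight x₀ = 1) :
    ∃ D : CDiv.Divisor X,
      (∀ f : CDiv.KUnits X, D.1 x₀ = CDiv.germOf X x₀ f → Scheme.ord (f : X.functionField) x₀ = 1) ∧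
      ∀ x : X, x ≠ x₀ → coheight x = 1 → ∀ f : CDiv.KUnits X, D.1 x = CDiv.germOf X x f →
        Scheme.ord (f : X.functionField) x = 0 := by
  classical
  choose g hg using fun z => @exists_isEqn X _ _ hX x₀ hx₀ z (hU z)
  have hmem : (fun z => CDiv.germOf X z (g z)) ∈ CDiv.divisorGroup X := fun x => by
    obtain ⟨W, hxW, hW⟩ := exists_open_isEqn (hg x)
    exact ⟨W, g x, hxW, fun y hy => germOf_eq_of_isEqn hX (hg y) (hW y hy)⟩
  refine ⟨⟨_, hmem⟩, fun f hf => ?_, fun x hne hx f hf => ?_⟩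
  · rw [← ord_eq_of_germOf_eq hf, hg x₀ x₀ hx₀ specializes_rfl, if_pos rfl]
  · rw [← ord_eq_of_germOf_eq hf, hg x x hx specializes_rfl, if_neg hne]

theorem ufd_of_prime_cycle_divisors (hX : Pi1.IsNormalScheme X)
    (h : ∀ x₀ : X, coheight x₀ = 1 → ∃ D : CDiv.Divisor X,
      (∀ f : CDiv.KUnits X, D.1 x₀ = CDiv.germOf X x₀ f → Scheme.ord (f : X.functionField) x₀ = 1) ∧
      ∀ x : X, x ≠ x₀ → coheight x = 1 → ∀ f : CDiv.KUnits X, D.1 x = CDiv.germOf X x f →
        Scheme.ord (f : X.functionField) x = 0) (z : X) :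
    UniqueFactorizationMonoid (X.presheaf.stalk z) := by
  classical
  rw [UniqueFactorizationMonoid.iff_forall_isPrincipal_of_height_eq_one]
  intro q hq hq1
  obtain ⟨_, ⟨U, hU, rfl⟩, hzU, -⟩ := X.isBasis_affineOpens.exists_subset_of_mem_open (Set.mem_univ z) isOpen_univ
  haveI : Nonempty U := ⟨⟨z, hzU⟩⟩
  set p := (hU.primeIdealOf ⟨z, hzU⟩).asIdeal with hpdef
  letI : Algebra Γ(X, U) (X.presheaf.stalk z) := TopCat.Presheaf.algebra_section_stalk X.presheaf (⟨z, hzU⟩ : U)
  haveI : IsLocalization.AtPrime (X.presheaf.stalk z) p := hU.isLocalization_stalk ⟨z, hzU⟩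
  haveI : IsScalarTower Γ(X, U) (X.presheaf.stalk z) X.functionField := functionField_isScalarTower X U ⟨z, hzU⟩
  let qA : PrimeSpectrum Γ(X, U) := ⟨q.under Γ(X, U), inferInstance⟩
  set x₀ := hU.fromSpec qA with hx₀def
  have hx₀U : x₀ ∈ U := hU.range_fromSpec.le (Set.mem_range_self qA)
  have hprime : hU.primeIdealOf ⟨x₀, hx₀U⟩ = qA :=
    hU.fromSpec.isOpenEmbedding.injective (hU.fromSpec_primeIdealOf ⟨x₀, hx₀U⟩)
  have hx₀ : coheight x₀ = 1 := by
    rw [coheight_fromSpec hU]
    exact (IsLocalization.height_under p.primeCompl q).trans hq1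
  have hqp : qA.asIdeal ≤ p := fun a ha => by
    by_contra hn
    exact hq.ne_top (Ideal.eq_top_of_isUnit_mem _ ha
      (IsLocalization.map_units (X.presheaf.stalk z) (⟨a, hn⟩ : p.primeCompl)))
  have hsp : x₀ ⤳ z := by
    have := ((PrimeSpectrum.le_iff_specializes qA (hU.primeIdealOf ⟨z, hzU⟩)).1 hqp).map hU.fromSpec.continuous
    rwa [hU.fromSpec_primeIdealOf] at this
  obtain ⟨D, hD1, hD0⟩ := h x₀ hx₀
  obtain ⟨f, hf⟩ := exists_germOf D z
  have hord : ∀ w, coheight w = 1 → w ⤳ z → Scheme.ord (f : X.functionField) w = if w = x₀ then 1 else 0 := by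
    intro w hw hwz
    split_ifs with hwx
    · subst hwx; exact hD1 f (rep_of_specializes D hwz hf)
    · exact hD0 w hwx hw f (rep_of_specializes D hwz hf)
  obtain ⟨a, ha⟩ : Reg (f : X.functionField) z := reg_of_ord_nonneg hX fun w hw hwz => by
    rw [hord w hw hwz]; split_ifs <;> omega
  refine ⟨⟨a, le_antisymm ?_ ((Submodule.span_singleton_le_iff_mem _ _).2 ?_)⟩⟩
  · rw [← IsLocalization.map_under p.primeCompl (X.presheaf.stalk z) q, Ideal.submodule_span_eq,
      Ideal.map_le_iff_le_comap]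
    intro c hc
    rw [Ideal.mem_comap, Ideal.mem_span_singleton]
    by_cases hc0 : c = 0
    · simp [hc0]
    have hcK : X.germToFunctionField U c ≠ 0 := (map_ne_zero_iff _ (X.germToFunctionField_injective U)).2 hc0
    obtain ⟨b, hb⟩ : Reg (X.germToFunctionField U c * (f : X.functionField)⁻¹) z := reg_of_ord_nonneg hX fun w hw hwz => by
      rw [Scheme.ord_mul hcK (inv_ne_zero f.ne_zero), ord_inv f.ne_zero, hord w hw hwz]
      have hwU : w ∈ U := hwz.mem_open U.2 hzU
      have hreg : Reg (X.germToFunctionField U c) w :=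
        ⟨X.presheaf.germ U w hwU c, Scheme.algebraMap_germ_eq_germToFunctionField X hwU c⟩
      have := ord_nonneg_of_reg hreg
      split_ifs with hwx
      · subst hwx
        have hnu : ¬ IsUnit (X.presheaf.germ U x₀ hwU c) := fun hu => by
          have h' := (stalkUnits_germ_iff hU hcK ⟨x₀, hwU⟩).1
            ⟨hu.unit, Units.ext (Scheme.algebraMap_germ_eq_germToFunctionField X hwU c)⟩
          rw [hprime] at h'
          exact h' hc
        have := ord_pos_of_nonunit hX hw
          (fun h0 => hc0 (germ_injective_of_isIntegral X x₀ hwU (h0.trans (map_zero _).symm))) hnu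
        rw [Scheme.algebraMap_germ_eq_germToFunctionField] at this
        omega
      · omega
    refine ⟨b, IsFractionRing.injective (X.presheaf.stalk z) X.functionField ?_⟩
    rw [map_mul, ha, hb, ← IsScalarTower.algebraMap_apply]
    exact (mul_div_cancel₀ _ f.ne_zero).symm.trans (by rw [div_eq_mul_inv]; rfl)
  · obtain ⟨a', ⟨s, hs⟩, rfl⟩ := IsLocalization.exists_mk'_eq p.primeCompl a
    rw [IsLocalization.mk'_mem_iff]
    by_contra hn
    change a' ∉ qA.asIdeal at hn
    rw [← hprime] at hn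
    have hs' : s ∉ (hU.primeIdealOf ⟨x₀, hx₀U⟩).asIdeal := by rw [hprime]; exact fun h => hs (hqp h)
    have hsK : X.germToFunctionField U s ≠ 0 :=
      (map_ne_zero_iff _ (X.germToFunctionField_injective U)).2 fun h => hs (h ▸ p.zero_mem)
    have haK : X.germToFunctionField U a' ≠ 0 :=
      (map_ne_zero_iff _ (X.germToFunctionField_injective U)).2 fun h => hn (h ▸ Ideal.zero_mem _)
    have h1 := mul_mem (inv_mem ((stalkUnits_germ_iff hU hsK ⟨x₀, hx₀U⟩).2 hs'))
      ((stalkUnits_germ_iff hU haK ⟨x₀, hx₀U⟩).2 hn)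
    have hfe : f = (Units.mk0 _ hsK)⁻¹ * Units.mk0 _ haK := Units.ext (by
      have e : algebraMap Γ(X, U) X.functionField s * (f : X.functionField) = algebraMap Γ(X, U) X.functionField a' := by
        rw [← ha, IsScalarTower.algebraMap_apply Γ(X, U) (X.presheaf.stalk z) X.functionField s, ← map_mul,
          IsLocalization.mk'_spec'_mk, ← IsScalarTower.algebraMap_apply]
      rw [Units.val_mul, Units.val_inv_eq_inv_val, Units.val_mk0, Units.val_mk0]
      exact (eq_inv_mul_iff_mul_eq₀ hsK).2 e)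
    have h2 := ord_eq_zero_of_mem_stalkUnits h1
    rw [← hfe, hord x₀ hx₀ hsp, if_pos rfl] at h2
    exact one_ne_zero h2

end Groth.Agent.CDivLib
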