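import Groth.Agent.Depth.Basic
import Mathlib

/-!
# Conductor ideals of elements of the fraction field and depth one
-/

set_option autoImplicit false

universe u

noncomputable section

open IsLocalRing

namespace Groth.Agent.CDivLib

/-- The ideal of denominators of an element of the fraction field. -/
def cond (A : Type u) [CommRing A] {K : Type u} [Field K] [Algebra A K] (f : K) : Ideal A where
  carrier := {b | ∃ a, algebraMap A K b * f = algebraMap A K a}
  add_mem' := fun {b c} ⟨a, ha⟩ ⟨d, hd⟩ => ⟨a + d, by rw [map_add, map_add, add_mul, ha, hd]⟩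
  zero_mem' := ⟨0, by simp⟩
  smul_mem' := fun r b ⟨a, ha⟩ => ⟨r * a, by rw [smul_eq_mul, map_mul, map_mul, mul_assoc, ha]⟩

theorem mem_cond {A : Type u} [CommRing A] {K : Type u} [Field K] [Algebra A K] {f : K} {b : A} :
    b ∈ cond A f ↔ ∃ a, algebraMap A K b * f = algebraMap A K a := Iff.rfl

theorem cond_ne_bot {A : Type u} [CommRing A] [IsDomain A] {K : Type u} [Field K] [Algebra A K]
    [IsFractionRing A K] (f : K) : cond A f ≠ ⊥ := by
  obtain ⟨a, b, hb, rfl⟩ := IsFractionRing.div_surjective (A := A) f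
  refine (Submodule.ne_bot_iff _).2 ⟨b, ⟨a, ?_⟩, nonZeroDivisors.ne_zero hb⟩
  rw [mul_div_cancel₀ _ (IsFractionRing.to_map_ne_zero_of_mem_nonZeroDivisors hb)]

theorem mem_range_localization {A K S : Type u} [CommRing A] [Field K] [Algebra A K] [CommRing S]
    [Algebra A S] [Algebra S K] [IsScalarTower A S K] (p : Ideal A) [p.IsPrime]
    [IsLocalization.AtPrime S p] (f : K) :
    (∃ s : S, algebraMap S K s = f) ↔ ¬ cond A f ≤ p := by
  constructor
  · rintro ⟨s, rfl⟩ hle
    obtain ⟨a, ⟨b, hb⟩, rfl⟩ := IsLocalization.exists_mk'_eq p.primeCompl s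
    change b ∉ p at hb
    refine hb (hle ⟨a, ?_⟩)
    rw [IsScalarTower.algebraMap_apply A S K b, ← map_mul, IsLocalization.mk'_spec'_mk,
      ← IsScalarTower.algebraMap_apply]
  · intro h
    obtain ⟨b, ⟨a, hab⟩, hb⟩ := SetLike.not_le_iff_exists.1 h
    refine ⟨IsLocalization.mk' S a (⟨b, hb⟩ : p.primeCompl), ?_⟩
    have hu : IsUnit (algebraMap A K b) := by
      rw [IsScalarTower.algebraMap_apply A S K]
      exact (IsLocalization.map_units S (⟨b, hb⟩ : p.primeCompl)).map (algebraMap S K)
    refine mul_left_cancel₀ hu.ne_zero ?_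
    rw [hab, IsScalarTower.algebraMap_apply A S K b, ← map_mul, IsLocalization.mk'_spec'_mk,
      ← IsScalarTower.algebraMap_apply]

section

variable {R : Type u} [CommRing R] [IsDomain R] [IsLocalRing R] [IsNoetherianRing R]

theorem maximalIdeal_smul_top_ne : maximalIdeal R • (⊤ : Submodule R R) ≠ ⊤ := by
  simpa [smul_eq_mul, Ideal.mul_top] using (maximalIdeal.isMaximal R).ne_top

/-- A non-integral element which is integral on the punctured spectrum forces depth one. -/
theorem depth_eq_one {K : Type u} [Field K] [Algebra R K] [IsFractionRing R K] (f : K)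
    (hf : ∀ a, algebraMap R K a ≠ f)
    (hp : ∀ q : Ideal R, q.IsPrime → cond R f ≤ q → maximalIdeal R ≤ q) :
    LocCoh.depth R R = 1 := by
  obtain ⟨a, b, hb0, rfl⟩ := IsFractionRing.div_surjective (A := R) f
  have hb : b ≠ 0 := nonZeroDivisors.ne_zero hb0
  have hbK : algebraMap R K b ≠ 0 := IsFractionRing.to_map_ne_zero_of_mem_nonZeroDivisors hb0
  have hbm : b ∈ maximalIdeal R := fun hu => hf (a * ↑hu.unit⁻¹) (by
    rw [eq_div_iff hbK, ← map_mul]
    exact congrArg _ (by rw [mul_assoc, IsUnit.val_inv_mul hu, mul_one]))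
  obtain ⟨N, hN⟩ := Ideal.exists_pow_le_of_le_radical_of_fg
    (I := maximalIdeal R) (J := cond R (algebraMap R K a / algebraMap R K b))
    (by rw [Ideal.radical_eq_sInf]; exact le_sInf fun q hq => hp q hq.2 hq.1)
    (IsNoetherian.noetherian _)
  let P : ℕ → Prop := fun n => ∀ r ∈ maximalIdeal R ^ n, r * a ∈ Ideal.span {b}
  have hPN : P N := fun r hr => by
    obtain ⟨d, hd⟩ := hN hr
    refine Ideal.mem_span_singleton.2 ⟨d, IsFractionRing.injective R K ?_⟩
    rw [map_mul, map_mul, ← hd]
    field_simp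
  obtain ⟨k, hk, hk1⟩ : ∃ k, ¬ P k ∧ P (k + 1) := by
    by_contra hno
    push Not at hno
    have : ∀ n, ¬ P n := fun n => by
      induction n with
      | zero =>
        intro h0
        obtain ⟨d, hd⟩ := Ideal.mem_span_singleton.1 (h0 1 (by simp))
        refine hf d ?_
        rw [eq_div_iff hbK, ← map_mul, mul_comm d b, ← hd, one_mul]
      | succ n ih => exact hno n ih
    exact this N hPN
  simp only [P, not_forall] at hk
  obtain ⟨r, hr, hra⟩ := hk
  have hmax : Depth.IsMaxSeq (maximalIdeal R) R [b] := by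
    refine ⟨(RingTheory.Sequence.isWeaklyRegular_singleton_iff R b).2 (mul_right_injective₀ hb),
      by simpa using hbm, r * a, ?_, fun s hs => ?_⟩
    · simpa [Ideal.ofList_singleton, smul_eq_mul, Ideal.mul_top] using hra
    · simp only [Ideal.ofList_singleton, smul_eq_mul, Ideal.mul_top]
      rw [← mul_assoc]
      exact hk1 _ (by rw [pow_succ']; exact Ideal.mul_mem_mul hs hr)
  simpa [LocCoh.depth] using Depth.idealDepth_eq_length maximalIdeal_smul_top_ne hmax

/-- A normal local noetherian domain of depth one is a discrete valuation ring. -/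
theorem isDVR_of_depth_one [IsIntegrallyClosed R] (h : LocCoh.depth R R = 1) :
    IsDiscreteValuationRing R := by
  obtain ⟨rs, hrs⟩ := Depth.exists_isMaxSeq (M := R) (maximalIdeal_smul_top_ne (R := R))
  have hl := Depth.idealDepth_eq_length (maximalIdeal_smul_top_ne (R := R)) hrs
  rw [LocCoh.depth] at h
  rw [h] at hl
  obtain ⟨b, rfl⟩ : ∃ b, rs = [b] := List.length_eq_one_iff.1 (by exact_mod_cast hl.symm)
  obtain ⟨hw, hmem, x, hx, hx'⟩ := hrs
  simp only [Ideal.ofList_singleton, smul_eq_mul, Ideal.mul_top, Ideal.mem_span_singleton] at hx hx'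
  have hbm : b ∈ maximalIdeal R := hmem b (by simp)
  have hb : b ≠ 0 := by
    rintro rfl
    have := (RingTheory.Sequence.isWeaklyRegular_singleton_iff R 0).1 hw
    exact one_ne_zero (this (show (0 : R) • (1 : R) = (0 : R) • 0 by simp))
  have hnf : ¬ IsField R := fun hF => hb (by
    have := IsLocalRing.isField_iff_maximalIdeal_eq.1 hF
    rwa [this, Ideal.mem_bot] at hbm)
  have hbK : algebraMap R (FractionRing R) b ≠ 0 := (map_ne_zero_iff _ (IsFractionRing.injective R (FractionRing R))).2 hb
  by_cases hA : ∀ s ∈ maximalIdeal R, ∀ r, s * x = b * r → r ∈ maximalIdeal R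
  · exfalso
    have hint : IsIntegral R (algebraMap R (FractionRing R) x / algebraMap R (FractionRing R) b) := by
      refine isIntegral_of_smul_mem_submodule (Submodule.map (Algebra.linearMap R (FractionRing R)) (maximalIdeal R)) ?_
        ((IsNoetherian.noetherian _).map _) _ ?_
      · refine (Submodule.ne_bot_iff _).2 ⟨algebraMap R (FractionRing R) b, ⟨b, hbm, rfl⟩, hbK⟩
      · rintro _ ⟨s, hs, rfl⟩
        obtain ⟨r, hr⟩ := hx' s hs
        refine ⟨r, hA s hs r hr, ?_⟩
        simp only [Algebra.linearMap_apply, smul_eq_mul]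
        field_simp
        rw [← map_mul, ← map_mul]
        exact congrArg _ (by rw [mul_comm r b, ← hr, mul_comm])
    obtain ⟨r, hr⟩ := (IsIntegrallyClosed.isIntegral_iff (R := R)).1 hint
    refine hx ⟨r, IsFractionRing.injective R (FractionRing R) ?_⟩
    rw [map_mul, hr]
    exact (mul_div_cancel₀ _ hbK).symm
  · push Not at hA
    obtain ⟨t, ht, u, htu, hu⟩ := hA
    obtain ⟨v, hv⟩ := (IsLocalRing.notMem_maximalIdeal.1 hu).exists_right_inv
    have hp : (maximalIdeal R).IsPrincipal := ⟨⟨t, le_antisymm (fun s hs => ?_)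
      ((Submodule.span_singleton_le_iff_mem _ _).2 ht)⟩⟩
    · exact ((IsDiscreteValuationRing.TFAE R hnf).out 0 4).2 hp
    obtain ⟨r, hr⟩ := hx' s hs
    refine Submodule.mem_span_singleton.2 ⟨r * v, mul_left_cancel₀ hb ?_⟩
    rw [smul_eq_mul]
    linear_combination s * v * htu - t * v * hr + b * s * hv

end

end Groth.Agent.CDivLib
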