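import Groth.Prelude.Def_CDiv
import Groth.Agent.CDivLib.Alg
import Mathlib

/-!
# Regular rational functions, germs and supports of Cartier divisors
-/

set_option autoImplicit false
set_option linter.style.haveILetI false
set_option backward.isDefEq.respectTransparency.types false

universe u

noncomputable section

open CategoryTheory AlgebraicGeometry TopologicalSpace Opposite

namespace Groth.Agent.CDivLib

variable {X : Scheme.{u}} [IsIntegral X]

/-- `f` is regular at `x`. -/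
def Reg (f : X.functionField) (x : X) : Prop :=
  ∃ a : X.presheaf.stalk x, algebraMap (X.presheaf.stalk x) X.functionField a = f

theorem exists_open_reg {f : X.functionField} {x : X} (h : Reg f x) :
    ∃ W : X.Opens, x ∈ W ∧ ∀ z ∈ W, Reg f z := by
  obtain ⟨a, rfl⟩ := h
  obtain ⟨W, hxW, s, rfl⟩ := X.presheaf.germ_exist a
  haveI : Nonempty W := ⟨⟨x, hxW⟩⟩
  exact ⟨W, hxW, fun z hz => ⟨X.presheaf.germ W z hz s, by
    rw [Scheme.algebraMap_germ_eq_germToFunctionField, Scheme.algebraMap_germ_eq_germToFunctionField]⟩⟩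

theorem Reg.mul {f g : X.functionField} {x : X} (hf : Reg f x) (hg : Reg g x) : Reg (f * g) x := by
  obtain ⟨a, rfl⟩ := hf; obtain ⟨b, rfl⟩ := hg
  exact ⟨a * b, map_mul _ _ _⟩

theorem reg_of_specializes {f : X.functionField} {z x : X} (hzx : z ⤳ x) (h : Reg f x) : Reg f z := by
  obtain ⟨W, hxW, hW⟩ := exists_open_reg h
  exact hW z (hzx.mem_open W.2 hxW)

theorem mem_stalkUnits_iff {f : CDiv.KUnits X} {x : X} :
    f ∈ CDiv.stalkUnits X x ↔ Reg (f : X.functionField) x ∧ Reg ((f⁻¹ : CDiv.KUnits X) : X.functionField) x := by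
  constructor
  · rintro ⟨v, rfl⟩
    exact ⟨⟨v, rfl⟩, ⟨(↑v⁻¹ : X.presheaf.stalk x), by rw [← map_inv]; rfl⟩⟩
  · rintro ⟨⟨a, ha⟩, ⟨b, hb⟩⟩
    have hab : a * b = 1 := IsFractionRing.injective (X.presheaf.stalk x) X.functionField
      (by rw [map_mul, ha, hb, map_one, Units.mul_inv])
    exact ⟨Units.mkOfMulEqOne a b hab, Units.ext ha⟩

theorem germOf_eq_one_iff {f : CDiv.KUnits X} {x : X} :
    CDiv.germOf X x f = 1 ↔ f ∈ CDiv.stalkUnits X x := QuotientGroup.eq_one_iff f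

theorem germOf_eq_iff {f g : CDiv.KUnits X} {x : X} :
    CDiv.germOf X x f = CDiv.germOf X x g ↔ f⁻¹ * g ∈ CDiv.stalkUnits X x := QuotientGroup.eq

theorem exists_germOf (D : CDiv.Divisor X) (x : X) :
    ∃ f : CDiv.KUnits X, D.1 x = CDiv.germOf X x f :=
  ⟨_, (QuotientGroup.out_eq' (D.1 x)).symm⟩

theorem stalkUnits_le {z x : X} (hzx : z ⤳ x) : CDiv.stalkUnits X x ≤ CDiv.stalkUnits X z := fun f hf =>
  mem_stalkUnits_iff.2
    ⟨reg_of_specializes hzx (mem_stalkUnits_iff.1 hf).1, reg_of_specializes hzx (mem_stalkUnits_iff.1 hf).2⟩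

theorem germOf_specializes {f g : CDiv.KUnits X} {z x : X} (hzx : z ⤳ x)
    (h : CDiv.germOf X x f = CDiv.germOf X x g) : CDiv.germOf X z f = CDiv.germOf X z g :=
  germOf_eq_iff.2 (stalkUnits_le hzx (germOf_eq_iff.1 h))

theorem exists_open_stalkUnits {f : CDiv.KUnits X} {x : X} (h : f ∈ CDiv.stalkUnits X x) :
    ∃ W : X.Opens, x ∈ W ∧ ∀ z ∈ W, f ∈ CDiv.stalkUnits X z := by
  obtain ⟨h1, h2⟩ := mem_stalkUnits_iff.1 h
  obtain ⟨W₁, hx₁, hW₁⟩ := exists_open_reg h1
  obtain ⟨W₂, hx₂, hW₂⟩ := exists_open_reg h2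
  exact ⟨W₁ ⊓ W₂, ⟨hx₁, hx₂⟩, fun z hz => mem_stalkUnits_iff.2 ⟨hW₁ z hz.1, hW₂ z hz.2⟩⟩

/-- A rational function representing a divisor at `x` represents it at every generization. -/
theorem rep_of_specializes (D : CDiv.Divisor X) {z x : X} (hzx : z ⤳ x) {f : CDiv.KUnits X}
    (h : D.1 x = CDiv.germOf X x f) : D.1 z = CDiv.germOf X z f := by
  obtain ⟨U, g, hxU, hU⟩ := D.2 x
  rw [hU z (hzx.mem_open U.2 hxU)]
  exact germOf_specializes hzx ((hU x hxU).symm.trans h)

/-- A rational function representing a divisor at `x` represents it near `x`. -/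
theorem rep_nhd (D : CDiv.Divisor X) {x : X} {f : CDiv.KUnits X}
    (h : D.1 x = CDiv.germOf X x f) :
    ∃ W : X.Opens, x ∈ W ∧ ∀ z ∈ W, D.1 z = CDiv.germOf X z f := by
  obtain ⟨U, g, hxU, hU⟩ := D.2 x
  obtain ⟨W, hxW, hW⟩ := exists_open_stalkUnits (germOf_eq_iff.1 ((hU x hxU).symm.trans h))
  exact ⟨U ⊓ W, ⟨hxU, hxW⟩, fun z hz => (hU z hz.1).trans (germOf_eq_iff.2 (hW z hz.2))⟩

theorem isEffectiveAt_iff (D : CDiv.Divisor X) {x : X} {f : CDiv.KUnits X}
    (h : D.1 x = CDiv.germOf X x f) : CDiv.IsEffectiveAt D x ↔ Reg (f : X.functionField) x := by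
  constructor
  · rintro ⟨a, ha, hD⟩
    have h1 := germOf_eq_iff.1 (hD.symm.trans h)
    have h2 : Reg (algebraMap (X.presheaf.stalk x) X.functionField a) x := ⟨a, rfl⟩
    have := h2.mul (mem_stalkUnits_iff.1 h1).1
    rwa [Units.val_mul, Units.val_inv_eq_inv_val, Units.val_mk0, ← mul_assoc, mul_inv_cancel₀ ha, one_mul] at this
  · rintro ⟨a, ha⟩
    refine ⟨a, ha ▸ f.ne_zero, h.trans (congrArg _ (Units.ext ha.symm))⟩

theorem germ_eq_one_of_effective (D : CDiv.Divisor X) {x : X} (h : CDiv.IsEffectiveAt D x)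
    (h' : CDiv.IsEffectiveAt D⁻¹ x) : D.1 x = 1 := by
  obtain ⟨f, hf⟩ := exists_germOf D x
  have hf' : (D⁻¹).1 x = CDiv.germOf X x f⁻¹ := by
    show (D.1 x)⁻¹ = _
    rw [hf]; exact (QuotientGroup.mk_inv _ f).symm
  rw [hf]
  exact germOf_eq_one_iff.2
    (mem_stalkUnits_iff.2 ⟨(isEffectiveAt_iff D hf).1 h, (isEffectiveAt_iff D⁻¹ hf').1 h'⟩)

theorem divisor_ext {D E : CDiv.Divisor X} (h : ∀ x, D.1 x = E.1 x) : D = E := Subtype.ext (funext h)

theorem reg_genericPoint (f : X.functionField) : Reg f (genericPoint X) := by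
  refine ⟨f, ?_⟩
  show (X.presheaf.stalkSpecializes _).hom f = _
  rw [TopCat.Presheaf.stalkSpecializes_refl]
  rfl

section Affine

variable {U : X.Opens} (hU : IsAffineOpen U) [Nonempty U]

/-- Regularity in terms of the conductor ideal on an affine open. -/
theorem reg_iff_not_cond_le (f : X.functionField) (x : U) :
    Reg f (x : X) ↔ ¬ cond Γ(X, U) f ≤ (hU.primeIdealOf x).asIdeal := by
  haveI := hU.isLocalization_stalk x
  letI := TopCat.Presheaf.algebra_section_stalk X.presheaf x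
  haveI := functionField_isScalarTower X U x
  exact mem_range_localization _ f

theorem reg_fromSpec_iff (f : X.functionField) (q : PrimeSpectrum Γ(X, U)) :
    Reg f (hU.fromSpec q) ↔ ¬ cond Γ(X, U) f ≤ q.asIdeal := by
  have hq : hU.fromSpec q ∈ U := hU.range_fromSpec.le (Set.mem_range_self q)
  have e : hU.primeIdealOf ⟨hU.fromSpec q, hq⟩ = q :=
    hU.fromSpec.isOpenEmbedding.injective (hU.fromSpec_primeIdealOf ⟨hU.fromSpec q, hq⟩)
  have := reg_iff_not_cond_le hU f ⟨hU.fromSpec q, hq⟩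
  rwa [e] at this

end Affine

/-- If a rational function fails to be regular at `x` but is regular at all proper generizations,
the local ring at `x` has depth one. -/
theorem depth_eq_one_of_not_reg [IsLocallyNoetherian X] {f : X.functionField} {x : X} (hf : ¬ Reg f x)
    (h : ∀ z, z ⤳ x → z ≠ x → Reg f z) :
    LocCoh.depth (X.presheaf.stalk x) (X.presheaf.stalk x) = 1 := by
  obtain ⟨_, ⟨U, hU, rfl⟩, hxU, -⟩ := X.isBasis_affineOpens.exists_subset_of_mem_open (Set.mem_univ x) isOpen_univ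
  haveI : Nonempty U := ⟨⟨x, hxU⟩⟩
  haveI := hU.isLocalization_stalk ⟨x, hxU⟩
  letI := TopCat.Presheaf.algebra_section_stalk X.presheaf (⟨x, hxU⟩ : U)
  haveI := functionField_isScalarTower X U ⟨x, hxU⟩
  refine depth_eq_one (K := X.functionField) f (fun a ha => hf ⟨a, ha⟩) fun q hq hle => ?_
  by_contra hm
  set p := hU.primeIdealOf ⟨x, hxU⟩ with hp
  let q' : PrimeSpectrum Γ(X, U) := ⟨q.comap (algebraMap Γ(X, U) (X.presheaf.stalk x)), inferInstance⟩
  have hq'p : q' ≤ p := fun b hb => by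
    by_contra hbp
    exact hq.ne_top (Ideal.eq_top_of_isUnit_mem _ hb
      (IsLocalization.map_units (X.presheaf.stalk x) (⟨b, hbp⟩ : p.asIdeal.primeCompl)))
  have hne : q' ≠ p := fun e => hm (by
    rw [← IsLocalization.AtPrime.map_eq_maximalIdeal p.asIdeal (X.presheaf.stalk x), Ideal.map_le_iff_le_comap]
    exact le_of_eq (congrArg PrimeSpectrum.asIdeal e).symm)
  have hz : hU.fromSpec q' ⤳ x := by
    conv_rhs => rw [show x = hU.fromSpec p from (hU.fromSpec_primeIdealOf ⟨x, hxU⟩).symm]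
    exact ((PrimeSpectrum.le_iff_specializes q' p).1 hq'p).map hU.fromSpec.continuous
  have hzne : hU.fromSpec q' ≠ x := fun e => hne (hU.fromSpec.isOpenEmbedding.injective
    (e.trans (hU.fromSpec_primeIdealOf ⟨x, hxU⟩).symm))
  refine (reg_fromSpec_iff hU f q').1 (h _ hz hzne) fun b ⟨a, hab⟩ => hle ⟨algebraMap Γ(X, U) _ a, ?_⟩
  rw [← IsScalarTower.algebraMap_apply, ← IsScalarTower.algebraMap_apply]
  exact hab

/-- A non-empty set of points has a maximal element for generization. -/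
theorem exists_maximal_generization [IsLocallyNoetherian X] (P : X → Prop) {y : X} (hy : P y) :
    ∃ x, P x ∧ x ⤳ y ∧ ∀ z, z ⤳ x → z ≠ x → ¬ P z := by
  obtain ⟨_, ⟨U, hU, rfl⟩, hyU, -⟩ := X.isBasis_affineOpens.exists_subset_of_mem_open (Set.mem_univ y) isOpen_univ
  haveI : IsNoetherianRing Γ(X, U) := IsLocallyNoetherian.component_noetherian ⟨U, hU⟩
  have hwf : WellFounded fun a b : PrimeSpectrum Γ(X, U) => a.asIdeal.height < b.asIdeal.height :=
    InvImage.wf _ wellFounded_lt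
  obtain ⟨q, ⟨hqP, hqy⟩, hmin⟩ := hwf.has_min
    {q : PrimeSpectrum Γ(X, U) | P (hU.fromSpec q) ∧ hU.fromSpec q ⤳ y}
    ⟨hU.primeIdealOf ⟨y, hyU⟩, by rw [Set.mem_ofPred_eq, hU.fromSpec_primeIdealOf]; exact ⟨hy, specializes_rfl⟩⟩
  refine ⟨_, hqP, hqy, fun z hz hne hzP => ?_⟩
  have hzU : z ∈ U := (hz.trans hqy).mem_open U.2 hyU
  have hzs : hU.fromSpec (hU.primeIdealOf ⟨z, hzU⟩) = z := hU.fromSpec_primeIdealOf ⟨z, hzU⟩
  refine hmin (hU.primeIdealOf ⟨z, hzU⟩) ⟨by rw [hzs]; exact hzP, by rw [hzs]; exact hz.trans hqy⟩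
    (Ideal.height_strict_mono_of_isPrime (PrimeSpectrum.asIdeal_lt_asIdeal _ _ |>.2 <|
      lt_of_le_of_ne ((PrimeSpectrum.le_iff_specializes _ _).2 ?_) fun e => hne (by rw [← e, hzs])))
  exact hU.fromSpec.isOpenEmbedding.isInducing.specializes_iff.1 (by rwa [hzs])

theorem isEffective_of_depth_one [IsLocallyNoetherian X] (D : CDiv.Divisor X)
    (h : ∀ x : X, LocCoh.depth (X.presheaf.stalk x) (X.presheaf.stalk x) = 1 → CDiv.IsEffectiveAt D x) :
    CDiv.IsEffective D := by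
  intro y
  by_contra hy
  obtain ⟨x, hx, -, hmax⟩ := exists_maximal_generization (fun x => ¬ CDiv.IsEffectiveAt D x) hy
  obtain ⟨f, hf⟩ := exists_germOf D x
  exact hx (h x (depth_eq_one_of_not_reg (fun hr => hx ((isEffectiveAt_iff D hf).2 hr)) fun z hz hne =>
    (isEffectiveAt_iff D (rep_of_specializes D hz hf)).1 (not_not.1 (hmax z hz hne))))

theorem isEffectiveAt_one (x : X) : CDiv.IsEffectiveAt (1 : CDiv.Divisor X) x :=
  (isEffectiveAt_iff 1 (f := 1) rfl).2 ⟨1, by simp⟩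

theorem isEffectiveAt_of_germ_eq_one (D : CDiv.Divisor X) {x : X} (h : D.1 x = 1) :
    CDiv.IsEffectiveAt D x :=
  (isEffectiveAt_iff D (f := 1) (h.trans rfl)).2 ⟨1, by simp⟩

theorem depth_eq_one_of_maximal_supp [IsLocallyNoetherian X] (D : CDiv.Divisor X) {x : X}
    (hx : x ∈ CDiv.supp D) (hmax : ∀ z, z ∈ CDiv.supp D → z ⤳ x → z = x) :
    LocCoh.depth (X.presheaf.stalk x) (X.presheaf.stalk x) = 1 := by
  obtain ⟨f, hf⟩ := exists_germOf D x
  have hgen : ∀ z, z ⤳ x → z ≠ x → f ∈ CDiv.stalkUnits X z := fun z hz hne => by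
    rw [← germOf_eq_one_iff, ← rep_of_specializes D hz hf]
    by_contra h
    exact hne (hmax z h hz)
  by_cases h1 : Reg (f : X.functionField) x
  · refine depth_eq_one_of_not_reg (f := ((f⁻¹ : CDiv.KUnits X) : X.functionField)) (fun h2 => hx ?_)
      fun z hz hne => (mem_stalkUnits_iff.1 (hgen z hz hne)).2
    rw [hf]
    exact germOf_eq_one_iff.2 (mem_stalkUnits_iff.2 ⟨h1, h2⟩)
  · exact depth_eq_one_of_not_reg h1 fun z hz hne => (mem_stalkUnits_iff.1 (hgen z hz hne)).1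

end Groth.Agent.CDivLib
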