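import Mathlib

/-!
# Locally proportional Cartier divisors with connected support are proportional
-/

set_option autoImplicit false

universe u

noncomputable section

open CategoryTheory AlgebraicGeometry TopologicalSpace

namespace Groth.Agent.CDivLib

variable {X : Scheme.{u}}

theorem eq_of_span_pow_eq {A : Type u} [CommRing A] {g : A} (hg : g ∈ nonZeroDivisors A)
    (hne : Ideal.span {g} ≠ ⊤) {p q : ℕ} (h : Ideal.span {g} ^ p = Ideal.span {g} ^ q) : p = q := by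
  by_contra hpq
  wlog hlt : p < q generalizing p q with H
  · exact H h.symm (Ne.symm hpq) (lt_of_le_of_ne (not_lt.1 hlt) (Ne.symm hpq))
  rw [Ideal.span_singleton_pow, Ideal.span_singleton_pow] at h
  obtain ⟨c, hc⟩ := Ideal.mem_span_singleton.1 (h.le (Ideal.mem_span_singleton_self (g ^ p)))
  have h1 : g ^ (q - p) * c = 1 := (mul_cancel_left_mem_nonZeroDivisors (pow_mem hg p)).1 (by
    rw [mul_one, ← mul_assoc, ← pow_add, Nat.add_sub_cancel' hlt.le]; exact hc.symm)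
  exact hne (Ideal.span_singleton_eq_top.2 ((isUnit_pow_iff (by omega : q - p ≠ 0)).1 (IsUnit.of_mul_eq_one c h1)))

theorem ideal_pow_eq_of_le {D E : X.IdealSheafData} {U V : X.affineOpens} (h : V ≤ U) {m n : ℕ}
    (e : D.ideal U ^ m = E.ideal U ^ n) : D.ideal V ^ m = E.ideal V ^ n := by
  rw [← D.map_ideal h, ← E.map_ideal h, ← Ideal.map_pow, ← Ideal.map_pow, e]

theorem ideal_eq_top_of_disjoint {D : X.IdealSheafData} {U : X.affineOpens}
    (h : ∀ y ∈ (U : X.Opens), y ∉ D.support) : D.ideal U = ⊤ := by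
  have := D.coe_support_inter U
  have he : X.zeroLocus (U := U.1) (D.ideal U) ∩ U.1 = ∅ := by
    rw [← this]; exact Set.eq_empty_iff_forall_notMem.2 fun y hy => h y hy.2 hy.1
  rw [U.2.fromSpec_image_zeroLocus (D.ideal U) |>.symm] at he
  exact PrimeSpectrum.zeroLocus_empty_iff_eq_top.1 (Set.image_eq_empty.1 he)

theorem eq_of_pow_eq_pow {D : X.IdealSheafData}
    (hD : ∀ x : X, ∃ U : X.affineOpens, x ∈ (U : X.Opens) ∧ ∃ g : Γ(X, U), g ∈ nonZeroDivisors Γ(X, U) ∧ D.ideal U = Ideal.span {g})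
    {x : X} (hx : x ∈ D.support) {V : X.affineOpens} (hxV : x ∈ (V : X.Opens)) {p q : ℕ}
    (h : D.ideal V ^ p = D.ideal V ^ q) : p = q := by
  obtain ⟨W, hxW, g, hg, hgW⟩ := hD x
  obtain ⟨r, hrV, hxr⟩ := W.2.exists_basicOpen_le ⟨x, hxV⟩ hxW
  let W' : X.affineOpens := ⟨X.basicOpen r, W.2.basicOpen r⟩
  have hle : W' ≤ W := X.basicOpen_le r
  have hW' : D.ideal W' = Ideal.span {X.presheaf.map (homOfLE hle).op g} := by
    rw [← D.map_ideal hle, hgW, Ideal.map_span, Set.image_singleton]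
  haveI := W.2.isLocalization_basicOpen r
  have hg' : X.presheaf.map (homOfLE hle).op g ∈ nonZeroDivisors Γ(X, W') :=
    IsLocalization.map_nonZeroDivisors_le (Submonoid.powers r) Γ(X, X.basicOpen r) (Submonoid.mem_map_of_mem _ hg)
  refine eq_of_span_pow_eq hg' (fun htop => ?_) ?_
  · have h1 := (Scheme.IdealSheafData.mem_support_iff_of_mem (I := D) (U := W') hxr).1 hx
    rw [hW', htop] at h1
    have h2 : (1 : Γ(X, W')) ∈ ((⊤ : Ideal Γ(X, W')) : Set Γ(X, W')) := trivial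
    have h3 := (Scheme.mem_zeroLocus_iff _ _ _).1 h1 1 h2
    rw [Scheme.basicOpen_of_isUnit _ isUnit_one] at h3
    exact h3 hxr
  · rw [← hW']
    exact ideal_pow_eq_of_le (D := D) (E := D) (show W' ≤ V from hrV) h

theorem exists_global_pair [IsNoetherian X] (D E : X.IdealSheafData)
    (hD : ∀ x : X, ∃ U : X.affineOpens, x ∈ (U : X.Opens) ∧ ∃ g : Γ(X, U), g ∈ nonZeroDivisors Γ(X, U) ∧ D.ideal U = Ideal.span {g})
    (hE : ∀ x : X, ∃ U : X.affineOpens, x ∈ (U : X.Opens) ∧ ∃ g : Γ(X, U), g ∈ nonZeroDivisors Γ(X, U) ∧ E.ideal U = Ideal.span {g})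
    (hconn : IsPreconnected ((D.support : Set X) ∪ (E.support : Set X)))
    (hloc : ∀ x : X, ∃ U : X.affineOpens, x ∈ (U : X.Opens) ∧
      ∃ m n : ℕ, (m, n) ≠ (0, 0) ∧ D.ideal U ^ m = E.ideal U ^ n) :
    ∃ m n : ℕ, (m, n) ≠ (0, 0) ∧ ∀ U : X.affineOpens, D.ideal U ^ m = E.ideal U ^ n := by
  classical
  set T : Set X := (D.support : Set X) ∪ (E.support : Set X) with hT
  choose U hxU m n hmn heq using hloc
  have hunique : ∀ x y z, z ∈ T → z ∈ (U x : X.Opens) → z ∈ (U y : X.Opens) → m x * n y = m y * n x := by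
    intro x y z hz hzx hzy
    obtain ⟨V, hV, hzV, hVle⟩ := exists_isAffineOpen_mem_and_subset (X := X) (x := z)
      (U := (U x : X.Opens) ⊓ U y) ⟨hzx, hzy⟩
    have e1 : D.ideal ⟨V, hV⟩ ^ m x = E.ideal ⟨V, hV⟩ ^ n x :=
      ideal_pow_eq_of_le (show (⟨V, hV⟩ : X.affineOpens) ≤ U x from fun a ha => (hVle ha).1) (heq x)
    have e2 : D.ideal ⟨V, hV⟩ ^ m y = E.ideal ⟨V, hV⟩ ^ n y :=
      ideal_pow_eq_of_le (show (⟨V, hV⟩ : X.affineOpens) ≤ U y from fun a ha => (hVle ha).2) (heq y)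
    rcases hz with hz | hz
    · refine eq_of_pow_eq_pow hD hz (V := ⟨V, hV⟩) hzV ?_
      rw [pow_mul, e1, ← pow_mul, mul_comm (n x), pow_mul, ← e2, ← pow_mul]
    · have := eq_of_pow_eq_pow hE hz (V := ⟨V, hV⟩) hzV (p := n x * m y) (q := n y * m x)
        (by rw [pow_mul, ← e1, ← pow_mul, mul_comm (m x), pow_mul, e2, ← pow_mul])
      linarith
  by_cases hTe : T = ∅
  · refine ⟨1, 0, by simp, fun V => ?_⟩
    rw [pow_one, pow_zero, Ideal.one_eq_top]
    exact ideal_eq_top_of_disjoint fun y _ hy => (hTe ▸ (Or.inl hy : y ∈ T) : y ∈ (∅ : Set X))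
  obtain ⟨x₀, hx₀⟩ := Set.nonempty_iff_ne_empty.2 hTe
  let u : Set X := ⋃ x ∈ {x | m x₀ * n x = m x * n x₀}, ((U x : X.Opens) : Set X)
  let v : Set X := ⋃ x ∈ {x | m x₀ * n x ≠ m x * n x₀}, ((U x : X.Opens) : Set X)
  have hne0 : ∀ x, ¬ (m x = 0 ∧ n x = 0) := fun x h => hmn x (by rw [h.1, h.2])
  have hprop : ∀ x, ((U x : X.Opens) : Set X) ∩ T ≠ ∅ → m x₀ * n x = m x * n x₀ := by
    intro x hx
    obtain ⟨z, hzx, hzT⟩ := Set.nonempty_iff_ne_empty.2 hx
    by_contra hne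
    obtain ⟨w, hwT, hwu, hwv⟩ := hconn u v (isOpen_biUnion fun _ _ => (U _).1.2) (isOpen_biUnion fun _ _ => (U _).1.2)
      (fun w hw => by
        by_cases h : m x₀ * n w = m w * n x₀
        · exact Or.inl (Set.mem_biUnion h (hxU w))
        · exact Or.inr (Set.mem_biUnion h (hxU w)))
      ⟨x₀, hx₀, Set.mem_biUnion (show m x₀ * n x₀ = m x₀ * n x₀ from rfl) (hxU x₀)⟩
      ⟨z, hzT, Set.mem_biUnion hne hzx⟩
    obtain ⟨a, ha, hwa⟩ := Set.mem_iUnion₂.1 hwu
    obtain ⟨b, hb, hwb⟩ := Set.mem_iUnion₂.1 hwv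
    have hab := hunique a b w hwT hwa hwb
    simp only [Set.mem_ofPred_eq] at ha hb
    rcases Nat.eq_zero_or_pos (m a) with h0 | h0
    · have hna : n a ≠ 0 := fun h => hne0 a ⟨h0, h⟩
      rw [h0, zero_mul] at ha hab
      have h1 : m x₀ = 0 := by simpa [hna] using ha
      have h2 : m b = 0 := by simpa [hna] using hab.symm
      exact hb (by rw [h1, h2]; simp)
    · refine hb (Nat.eq_of_mul_eq_mul_left h0 ?_)
      calc m a * (m x₀ * n b) = m x₀ * (m a * n b) := by ring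
        _ = m x₀ * (m b * n a) := by rw [hab]
        _ = m b * (m x₀ * n a) := by ring
        _ = m b * (m a * n x₀) := by rw [ha]
        _ = m a * (m b * n x₀) := by ring
  obtain ⟨s, hs⟩ := CompactSpace.isCompact_univ.elim_finite_subcover (fun x => ((U x : X.Opens) : Set X))
    (fun x => (U x).1.2) (fun x _ => Set.mem_iUnion.2 ⟨x, hxU x⟩)
  set L := ∏ x ∈ s, (m x + n x) with hL
  have hLpos : L ≠ 0 := Finset.prod_ne_zero_iff.2 fun x _ h => hne0 x (by omega)
  refine ⟨L * m x₀, L * n x₀, fun h => ?_, ?_⟩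
  · simp only [Prod.mk.injEq, mul_eq_zero, hLpos, false_or] at h
    exact hne0 x₀ h
  suffices h : D ^ (L * m x₀) = E ^ (L * n x₀) by
    intro V
    have := congrArg (fun I : X.IdealSheafData => I.ideal V) h
    simpa using this
  refine Scheme.IdealSheafData.ext_of_iSup_eq_top (fun x : s => U x.1) ?_ fun x => ?_
  · refine top_le_iff.1 fun y _ => ?_
    obtain ⟨a, has, hya⟩ := Set.mem_iUnion₂.1 (hs (Set.mem_univ y))
    exact TopologicalSpace.Opens.mem_iSup.2 ⟨⟨a, has⟩, hya⟩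
  · simp only [Scheme.IdealSheafData.ideal_pow, Pi.pow_apply]
    by_cases hx : ((U x.1 : X.Opens) : Set X) ∩ T = ∅
    · have h1 : D.ideal (U x.1) = ⊤ := ideal_eq_top_of_disjoint fun y hy hy' =>
        Set.eq_empty_iff_forall_notMem.1 hx y ⟨hy, Or.inl hy'⟩
      have h2 : E.ideal (U x.1) = ⊤ := ideal_eq_top_of_disjoint fun y hy hy' =>
        Set.eq_empty_iff_forall_notMem.1 hx y ⟨hy, Or.inr hy'⟩
      rw [h1, h2, ← Ideal.one_eq_top, one_pow, one_pow]
    · obtain ⟨c, hc⟩ : m x.1 + n x.1 ∣ L := Finset.dvd_prod_of_mem _ x.2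
      have hp := hprop x.1 hx
      have k1 : L * m x₀ = m x.1 * (c * (m x₀ + n x₀)) := by
        rw [hc]; linear_combination c * hp
      have k2 : L * n x₀ = n x.1 * (c * (m x₀ + n x₀)) := by
        have h3 : c * (m x₀ * n x.1) = c * (m x.1 * n x₀) := by rw [hp]
        rw [hc]; linarith
      rw [k1, k2, pow_mul, heq x.1, ← pow_mul]

end Groth.Agent.CDivLib
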